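import Cfsg.Agent.H377.NR.Defs
import Cfsg.Agent.H405.Setup
import Cfsg.Agent.H618.NR.LinOdd

/-!
# S3440: `Good L` for `PSL_n(q)` and `PSU_n(q)`, `n ≥ 5` (helper618, task 4402)
-/

set_option autoImplicit false
set_option linter.unusedSectionVars false

namespace Cfsg.Agent.H618.NR

open Cfsg Cfsg.Agent.H377.NR Cfsg.Agent.H403 Cfsg.Agent.H403.NumTop Cfsg.Agent.H405.Setup

variable {p : ℕ} {e : Bool} {n k : ℕ} {F : Type} [Field F] [Fintype F] {L : Type*} [Group L] [Finite L]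

section

variable (D : Dat p e n k F L L)

include D

theorem na_of {i j r s : ℕ} (h : Ro p e k i r) (h' : Ro p e k j s) (hi : 2 ≤ i) (hj : 2 ≤ j) (hin : i ≤ n)
    (hjn : j ≤ n) (hij : n < i + j) (hne : i ≠ j) (hl : n < Nat.lcm i j) : NA L r s :=
  ⟨⟨h.1, D.dvd_card h hi hin⟩, ⟨h'.1, D.dvd_card h' hj hjn⟩, h.ne h' hne, D.not_adj h h' hi hj hij hl⟩

theorem na_char {i r : ℕ} (h : Ro p e k i r) (hi : i = n ∨ i = n - 1) : NA L r p := by
  have hn := D.hn
  have hi2 : 2 ≤ i := by omega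
  exact ⟨⟨h.1, D.dvd_card h hi2 (by omega)⟩, ⟨D.hp, D.p_dvd⟩, h.ne_char D.hk (by omega), D.not_rp h hi⟩

/-- every prime divisor is not adjacent to `r_n` or `r_{n-1}` -/
theorem na_cover (hn5 : 5 ≤ n) {a b : ℕ} (ha : Ro p e k n a) (hb : Ro p e k (n - 1) b) {v : ℕ} (hv : Pi L v) :
    NA L v a ∨ NA L v b := by
  by_cases hvp : v = p
  · subst hvp
    exact Or.inl (na_char D ha (Or.inl rfl)).symm
  obtain ⟨j, hj1, hjn, hd⟩ := D.exists_AA hv.1 hv.2 hvp
  have hq1 : 1 ≤ p ^ k := Nat.one_le_pow _ _ D.hp.pos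
  obtain ⟨i, hi⟩ : ∃ i, i = orderOf ((xv e (p ^ k) : ℤ) : ZMod v) := ⟨_, rfl⟩
  have hij : i ∣ j := by
    rw [hi, orderOf_dvd_iff_pow_eq_one, ← dvd_AA_iff hq1]
    exact hd
  have hro : Ro p e k i v := ⟨hv.1, hi.symm⟩
  have hi0 : 1 ≤ i := Nat.pos_of_dvd_of_pos hij (by omega)
  have hin : i ≤ n := (Nat.le_of_dvd (by omega) hij).trans hjn
  rcases Nat.lt_or_ge 1 i with hi2 | hi2
  · by_cases hdn : i ∣ n
    · right
      have hnd : ¬ i ∣ n - 1 := by
        intro h
        have h1 := Nat.dvd_sub hdn h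
        rw [show n - (n - 1) = 1 by omega] at h1
        have := Nat.le_of_dvd one_pos h1
        omega
      refine na_of D hro hb hi2 (by omega) hin (by omega) (by omega) (fun h => hnd (h ▸ dvd_rfl)) ?_
      obtain ⟨c, hc⟩ := Nat.dvd_lcm_right i (n - 1)
      have hpos : 0 < Nat.lcm i (n - 1) := Nat.lcm_pos (by omega) (by omega)
      have hc2 : 2 ≤ c := by
        by_contra hc2
        have : c = 0 ∨ c = 1 := by omega
        rcases this with rfl | rfl
        · omega
        · apply hnd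
          rw [mul_one] at hc
          rw [← hc]
          exact Nat.dvd_lcm_left _ _
      rw [hc]
      have := Nat.mul_le_mul_left (n - 1) hc2
      omega
    · left
      refine na_of D hro ha hi2 (by omega) hin le_rfl (by omega) (fun h => hdn (h ▸ dvd_rfl)) ?_
      obtain ⟨c, hc⟩ := Nat.dvd_lcm_right i n
      have hpos : 0 < Nat.lcm i n := Nat.lcm_pos (by omega) (by omega)
      have hc2 : 2 ≤ c := by
        by_contra hc2
        have : c = 0 ∨ c = 1 := by omega
        rcases this with rfl | rfl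
        · omega
        · apply hdn
          rw [mul_one] at hc
          rw [← hc]
          exact Nat.dvd_lcm_left _ _
      rw [hc]
      have := Nat.mul_le_mul_left n hc2
      omega
  · have hi1 : i = 1 := by omega
    subst hi1
    have hsh : v ∣ AA e 1 (p ^ k) := (hro.dvd_iff D.hp.pos).2 dvd_rfl
    have hsq : ¬ v ∣ p ^ k := fun h => hvp ((Nat.prime_dvd_prime_iff_eq hv.1 D.hp).1 (hv.1.dvd_of_dvd_pow h))
    have hPa : Pi L a := ⟨ha.1, D.dvd_card ha (by omega) le_rfl⟩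
    have hPb : Pi L b := ⟨hb.1, D.dvd_card hb (by omega) (by omega)⟩
    have hva : v ≠ a := hro.ne ha (by omega)
    have hvb : v ≠ b := hro.ne hb (by omega)
    rcases cover D.lin D.hF (by omega) ha.1 hb.1 hv.1 ha.2 hb.2 hsh hsq with h | h
    · exact Or.inl (NA.symm ⟨hPa, hv, hva.symm, h⟩)
    · exact Or.inr (NA.symm ⟨hPb, hv, hvb.symm, h⟩)

theorem ro_not_dvd {i r : ℕ} (h : Ro p e k i r) (hi : 3 ≤ i) : ¬ r ∣ p - 1 := by
  intro hd
  have hp1 := D.hp.pos
  have h1 : ((p : ℕ) : ZMod r) = 1 := by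
    have h2 : ((p - 1 : ℕ) : ZMod r) = 0 := (ZMod.natCast_eq_zero_iff _ _).2 hd
    rw [Nat.cast_sub (by omega), Nat.cast_one, sub_eq_zero] at h2
    exact h2
  have h3 : ((xv e (p ^ k) : ℤ) : ZMod r) ^ 2 = 1 := by
    unfold xv
    cases e
    · simp [h1]
    · simp [h1]
  have h4 := orderOf_dvd_of_pow_eq_one h3
  rw [h.2] at h4
  have := Nat.le_of_dvd (by norm_num) h4
  omega

theorem exists_two (hn5 : 5 ≤ n) (hex : ¬ (e = true ∧ p ^ k = 2)) :
    ∃ a b, Ro p e k n a ∧ Ro p e k (n - 1) b := by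
  obtain ⟨a, ha⟩ := D.exists_ro (i := n) (by omega) (by
    rintro (⟨h1, -, h2⟩ | ⟨-, h2, -⟩)
    · exact hex ⟨h1, h2⟩
    · omega)
  obtain ⟨b, hb⟩ := D.exists_ro (i := n - 1) (by omega) (by
    rintro (⟨h1, -, h2⟩ | ⟨-, h2, -⟩)
    · exact hex ⟨h1, h2⟩
    · omega)
  exact ⟨a, b, ha, hb⟩

theorem lcm_pred (hn5 : 5 ≤ n) : n < Nat.lcm n (n - 1) := by
  have hcop : Nat.Coprime n (n - 1) := by
    obtain ⟨m, rfl⟩ : ∃ m, n = m + 1 := ⟨n - 1, by omega⟩
    rw [Nat.add_sub_cancel, Nat.coprime_comm]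
    exact (Nat.coprime_self_add_right).2 (Nat.coprime_one_right _)
  rw [hcop.lcm_eq_mul]
  have h3 := Nat.mul_le_mul_left n (show 3 ≤ n - 1 by omega)
  omega

theorem lcm_two (hn5 : 5 ≤ n) : n < Nat.lcm n (n - 2) := by
  obtain ⟨c, hc⟩ := Nat.dvd_lcm_left n (n - 2)
  have hpos : 0 < Nat.lcm n (n - 2) := Nat.lcm_pos (by omega) (by omega)
  have hc2 : 2 ≤ c := by
    by_contra hc2
    have : c = 0 ∨ c = 1 := by omega
    rcases this with rfl | rfl
    · omega
    · rw [mul_one] at hc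
      have h1 : n - 2 ∣ n := by
        conv_rhs => rw [← hc]
        exact Nat.dvd_lcm_right _ _
      have h2 := Nat.dvd_sub h1 (dvd_refl (n - 2))
      rw [show n - (n - 2) = 2 by omega] at h2
      have := Nat.le_of_dvd (by norm_num) h2
      omega
  rw [hc]
  have := Nat.mul_le_mul_left n hc2
  omega

theorem lcm_pred_two (hn5 : 5 ≤ n) : n < Nat.lcm (n - 1) (n - 2) := by
  have hcop : Nat.Coprime (n - 1) (n - 2) := by
    obtain ⟨m, rfl⟩ : ∃ m, n = m + 2 := ⟨n - 2, by omega⟩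
    rw [Nat.add_sub_cancel, show m + 2 - 1 = m + 1 by omega, Nat.coprime_comm]
    exact (Nat.coprime_self_add_right).2 (Nat.coprime_one_right _)
  rw [hcop.lcm_eq_mul]
  have h3 := Nat.mul_le_mul_left (n - 1) (show 3 ≤ n - 2 by omega)
  omega

end

theorem not_two_pow_of_odd {i : ℕ} (hi : 2 ≤ i) (ho : i % 2 = 1) (j : ℕ) : i ≠ 2 ^ j := by
  rintro rfl
  cases j with
  | zero => simp at hi
  | succ j => rw [pow_succ] at ho; omega

theorem ro_not_fermat {i s : ℕ} (h : Ro p e k i s) (hi0 : i ≠ 0) (h2 : ∀ j : ℕ, i ≠ 2 ^ j) (m : ℕ) :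
    s ≠ 2 ^ m + 1 := not_fermat h.1 h.2 hi0 h2 m

/-- two numbers at distance two, the smaller at least `3`, are not both powers of `2` -/
theorem not_both (hn5 : 5 ≤ n) : (∀ j : ℕ, n ≠ 2 ^ j) ∨ ∀ j : ℕ, n - 2 ≠ 2 ^ j := by
  by_contra h
  push Not at h
  obtain ⟨⟨j, hj⟩, ⟨i, hi⟩⟩ := h
  have hj2 : 2 ≤ j := by
    by_contra hc
    have : j = 0 ∨ j = 1 := by omega
    rcases this with rfl | rfl <;> simp at hj <;> omega
  have hi2 : 2 ≤ i := by
    by_contra hc
    have : i = 0 ∨ i = 1 := by omega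
    rcases this with rfl | rfl <;> simp at hi <;> omega
  have h1 : 4 ∣ 2 ^ j := pow_dvd_pow 2 hj2
  have h2 : 4 ∣ 2 ^ i := pow_dvd_pow 2 hi2
  omega

/-- **`Good L` for `PSL_n(q)`, `PSU_n(q)`, `n ≥ 5`**, `(ε, q) ≠ (+, 2)`. -/
theorem good_lin (D : Dat p e n k F L L) (hn5 : 5 ≤ n) (hex : ¬ (e = true ∧ p ^ k = 2)) : Good L := by
  obtain ⟨a, b, ha, hb⟩ := exists_two D hn5 hex
  have hab : NA L a b := na_of D ha hb (by omega) (by omega) le_rfl (by omega) (by omega) (by omega) (lcm_pred D hn5)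
  have hap := na_char D ha (Or.inl rfl)
  have hbp := na_char D hb (Or.inr rfl)
  by_cases hp2 : p = 2
  · rw [hp2] at hap hbp
    exact good_of_pair (strong_of_two hap.symm hbp.symm hab) (strong_of_two hbp.symm hap.symm hab.symm)
      fun v hv => na_cover D hn5 ha hb hv
  · have hpk : p ^ k = 2 → p = 2 := by
      intro h2
      have h3 : 2 ∣ p ^ k := by rw [h2]
      exact ((Nat.prime_dvd_prime_iff_eq Nat.prime_two D.hp).1 (Nat.prime_two.dvd_of_dvd_pow h3)).symm
    obtain ⟨c, hc⟩ := D.exists_ro (i := n - 2) (by omega) (by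
      rintro (⟨-, -, h2⟩ | ⟨-, -, h2⟩)
      · exact hp2 (hpk h2)
      · exact hp2 (hpk h2))
    have hac : NA L a c := na_of D ha hc (by omega) (by omega) le_rfl (by omega) (by omega) (by omega) (lcm_two D hn5)
    have hbc : NA L b c := na_of D hb hc (by omega) (by omega) (by omega) (by omega) (by omega) (by omega)
      (lcm_pred_two D hn5)
    have ha2 := ha.ne_two (by omega)
    have hb2 := hb.ne_two (by omega)
    have hc2 := hc.ne_two (by omega)
    have hcp : c ≠ p := hc.ne_char D.hk (by omega)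
    refine good_of_pair (a := a) (b := b) ?_ ?_ fun v hv => na_cover D hn5 ha hb hv
    · refine strong_of_three ha2 hb2 hc2 hp2 hcp hab hac hap hbc hbp ?_ (ro_not_dvd D ha (by omega))
      rcases Nat.mod_two_eq_zero_or_one n with h | h
      · exact Or.inl (ro_not_fermat hb (by omega) (not_two_pow_of_odd (by omega) (by omega)))
      · exact Or.inr (ro_not_fermat hc (by omega) (not_two_pow_of_odd (by omega) (by omega)))
    · refine strong_of_three hb2 ha2 hc2 hp2 hcp hab.symm hbc hbp hac hap ?_ (ro_not_dvd D hb (by omega))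
      exact (not_both hn5).imp (fun h => ro_not_fermat ha (by omega) h) fun h => ro_not_fermat hc (by omega) h

/-- **`PSU_n(q)`, `n ≥ 5`.** -/
theorem good_psu {L : Type*} [Group L] [Finite L] {F : Type} [Field F] [Fintype F] {n q : ℕ}
    (hF : Fintype.card F = q ^ 2) (hn : 5 ≤ n) (h : Nonempty (L ≃* Cfsg.PSU n F q)) : Good L := by
  obtain ⟨p, hch⟩ := CharP.exists F
  obtain ⟨m, hp, hm⟩ := FiniteField.card F p
  obtain ⟨k, -, hk⟩ : ∃ k ≤ (m : ℕ), q = p ^ k := by
    refine (Nat.dvd_prime_pow hp).1 ?_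
    rw [← hm, hF]
    exact dvd_pow_self q two_ne_zero
  have hk1 : 1 ≤ k := by
    rcases Nat.eq_zero_or_pos k with h0 | h0
    · exfalso
      rw [h0, pow_zero] at hk
      have := Fintype.one_lt_card (α := F)
      rw [hF, hk] at this
      omega
    · exact h0
  subst hk
  have D : Dat p false n k F L L :=
    { hp := hp
      hch := hch
      hn := by omega
      hk := hk1
      hsm := by rintro ⟨-, h4, -⟩; omega
      hF := hF
      hL := h
      hsp := fun m => Iff.rfl }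
  exact good_lin D hn (by rintro ⟨h1, -⟩; exact absurd h1 (by decide))

/-- **`PSL_n(q)`, `n ≥ 5`, `q > 2`.** -/
theorem good_psl {L : Type*} [Group L] [Finite L] {F : Type} [Field F] [Fintype F] {n : ℕ} (hn : 5 ≤ n)
    (h2 : Fintype.card F ≠ 2) (h : Nonempty (L ≃* Matrix.ProjectiveSpecialLinearGroup (Fin n) F)) : Good L := by
  obtain ⟨p, hch⟩ := CharP.exists F
  obtain ⟨m, hp, hm⟩ := FiniteField.card F p
  have D : Dat p true n m F L L :=
    { hp := hp
      hch := hch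
      hn := by omega
      hk := m.pos
      hsm := by rintro ⟨h4, -⟩; exact absurd h4 (by decide)
      hF := by rw [hm]; simp
      hL := h
      hsp := fun m => Iff.rfl }
  exact good_lin D hn (by rintro ⟨-, h1⟩; rw [← hm] at h1; exact h2 h1)

end Cfsg.Agent.H618.NR
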